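import Mathlib
import Groth.Prelude.Def_Coh

/-!
A derivation of `A` extends to the structure sheaf of a formally étale scheme over `Spec A`.
-/

set_option autoImplicit false
set_option linter.style.haveILetI false

universe u

open CategoryTheory AlgebraicGeometry TopologicalSpace Opposite

namespace Groth.CohDerOp

/-- Square-zero extension of a ring by itself, without the diagonal algebra structures. -/
def DT (B : Type u) : Type u := TrivSqZeroExt B B

variable {B : Type u} [CommRing B]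

noncomputable instance : CommRing (DT B) := inferInstanceAs (CommRing (TrivSqZeroExt B B))

/-- An element of `DT B`. -/
def DT.mk (b d : B) : DT B := (b, d)

/-- First component. -/
noncomputable def DT.fst : DT B →+* B := (TrivSqZeroExt.fstHom B B B).toRingHom

/-- Second component. -/
def DT.snd (x : DT B) : B := TrivSqZeroExt.snd (R := B) (M := B) x

lemma DT.fst_mk (b d : B) : DT.fst (DT.mk b d) = b := rfl

lemma DT.snd_mk (b d : B) : DT.snd (DT.mk b d) = d := rfl

lemma DT.ext {x y : DT B} (h₁ : DT.fst x = DT.fst y) (h₂ : DT.snd x = DT.snd y) : x = y :=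
  TrivSqZeroExt.ext h₁ h₂

lemma DT.snd_add (x y : DT B) : DT.snd (x + y) = DT.snd x + DT.snd y :=
  TrivSqZeroExt.snd_add (R := B) (M := B) x y

lemma DT.snd_mul (x y : DT B) : DT.snd (x * y) = DT.fst x * DT.snd y + DT.fst y * DT.snd x := by
  refine (TrivSqZeroExt.snd_mul (R := B) (M := B) x y).trans ?_
  show TrivSqZeroExt.fst x • TrivSqZeroExt.snd y + MulOpposite.op (TrivSqZeroExt.fst y) • TrivSqZeroExt.snd x =
    TrivSqZeroExt.fst x * TrivSqZeroExt.snd y + TrivSqZeroExt.fst y * TrivSqZeroExt.snd x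
  rw [smul_eq_mul, op_smul_eq_smul, smul_eq_mul]

lemma DT.isNilpotent_ker : IsNilpotent (RingHom.ker (DT.fst (B := B))) := by
  refine ⟨2, ?_⟩
  rw [pow_two, Ideal.zero_eq_bot, eq_bot_iff, Ideal.mul_le]
  intro r hr s hs
  rw [RingHom.mem_ker] at hr hs
  refine (Ideal.mem_bot).2 (DT.ext ?_ ?_)
  · rw [map_mul, hr, hs, mul_zero, map_zero]
  · rw [DT.snd_mul, hr, hs, zero_mul, zero_mul, add_zero]
    rfl

/-- The ring map given by a Leibniz map. -/
noncomputable def DT.ofLeibniz {C : Type u} [CommRing C] (r : C →+* B) (d : C →+ B)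
    (h : ∀ x y, d (x * y) = r x * d y + r y * d x) : C →+* DT B where
  toFun x := DT.mk (r x) (d x)
  map_one' := by
    refine DT.ext (map_one r) ?_
    show d 1 = 0
    simpa using h 1 1
  map_mul' x y := DT.ext (map_mul r x y) (by rw [DT.snd_mk, h, DT.snd_mul]; rfl)
  map_zero' := DT.ext (map_zero r) (map_zero d)
  map_add' x y := DT.ext (map_add r x y) (by rw [DT.snd_mk, map_add, DT.snd_add]; rfl)

variable {A C : Type u} [CommRing A] [CommRing C]

/-- Leibniz maps on a formally unramified algebra agree once they agree on the base. -/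
theorem leibniz_ext [Algebra A C] [Algebra.FormallyUnramified A C] (r : C →+* B) (d₁ d₂ : C →+ B)
    (h₁ : ∀ x y, d₁ (x * y) = r x * d₁ y + r y * d₁ x)
    (h₂ : ∀ x y, d₂ (x * y) = r x * d₂ y + r y * d₂ x)
    (h : ∀ a : A, d₁ (algebraMap A C a) = d₂ (algebraMap A C a)) (x : C) : d₁ x = d₂ x := by
  letI : Algebra A (DT B) := ((DT.ofLeibniz r d₁ h₁).comp (algebraMap A C)).toAlgebra
  let g₁ : C →ₐ[A] DT B := { DT.ofLeibniz r d₁ h₁ with commutes' := fun _ => rfl }
  let g₂ : C →ₐ[A] DT B := { DT.ofLeibniz r d₂ h₂ with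
    commutes' := fun a => DT.ext rfl (h a).symm }
  have := Algebra.FormallyUnramified.ext' (R := A) (DT.fst (B := B)) DT.isNilpotent_ker g₁ g₂
    (fun _ => rfl)
  exact congr(DT.snd ($this x))

/-- A derivation of the base extends to a formally smooth algebra. -/
theorem exists_leibniz [Algebra A B] [Algebra.FormallySmooth A B] (θ : Derivation ℤ A A) :
    ∃ d : B →+ B, (∀ x y, d (x * y) = x * d y + y * d x) ∧
      ∀ a, d (algebraMap A B a) = algebraMap A B (θ a) := by
  letI : Algebra A (DT B) := (DT.ofLeibniz (algebraMap A B)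
    ((algebraMap A B).toAddMonoidHom.comp θ.toLinearMap.toAddMonoidHom)
    (fun x y => by simp [Derivation.leibniz, smul_eq_mul])).toAlgebra
  let p : DT B →ₐ[A] B := { DT.fst (B := B) with commutes' := fun _ => rfl }
  have hp : Function.Surjective p := fun b => ⟨DT.mk b 0, rfl⟩
  let s := Algebra.FormallySmooth.liftOfSurjective (AlgHom.id A B) p hp DT.isNilpotent_ker
  have hs : ∀ x, DT.fst (s x) = x := fun x =>
    congr($(Algebra.FormallySmooth.comp_liftOfSurjective (AlgHom.id A B) p hp DT.isNilpotent_ker) x)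
  refine ⟨{ toFun := fun x => DT.snd (s x), map_zero' := ?_, map_add' := fun x y => ?_ },
    fun x y => ?_, fun a => ?_⟩
  · show DT.snd (s 0) = 0
    rw [map_zero]; rfl
  · show DT.snd (s (x + y)) = DT.snd (s x) + DT.snd (s y)
    rw [map_add, DT.snd_add]
  · show DT.snd (s (x * y)) = x * DT.snd (s y) + y * DT.snd (s x)
    rw [map_mul, DT.snd_mul, hs, hs]
  · show DT.snd (s (algebraMap A B a)) = _
    rw [AlgHom.commutes]
    rfl

variable {X : Scheme.{u}}

/-- Restriction of functions. -/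
abbrev rs (X : Scheme.{u}) {W' W : X.Opens} (h : W' ≤ W) : Γ(X, W) →+* Γ(X, W') :=
  (X.presheaf.map (homOfLE h).op).hom

lemma rs_rs {P Q R : X.Opens} (h : P ≤ Q) (h' : Q ≤ R) (s : Γ(X, R)) :
    rs X h (rs X h' s) = rs X (h.trans h') s := by
  simp only [rs]
  rw [← ConcreteCategory.comp_apply, ← Functor.map_comp]
  rfl

lemma eq_of_affine {W : X.Opens} (s t : Γ(X, W))
    (h : ∀ (W' : X.Opens) (_ : IsAffineOpen W') (hle : W' ≤ W), rs X hle s = rs X hle t) : s = t := by
  refine TopCat.Sheaf.eq_of_locally_eq' X.sheaf (fun i : {W' : X.Opens // IsAffineOpen W' ∧ W' ≤ W} => i.1) W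
    (fun i => homOfLE i.2.2) ?_ s t (fun i => h i.1 i.2.1 i.2.2)
  intro z hz
  obtain ⟨_, ⟨W', hW', rfl⟩, hzW, hle⟩ := X.isBasis_affineOpens.exists_subset_of_mem_open hz W.2
  exact Opens.mem_iSup.2 ⟨⟨W', hW', hle⟩, hzW⟩

lemma exists_glue (δ : ∀ W : X.Opens, IsAffineOpen W → Γ(X, W) →+ Γ(X, W))
    (hres : ∀ (W W' : X.Opens) (hW : IsAffineOpen W) (hW' : IsAffineOpen W') (h : W' ≤ W) (a : Γ(X, W)),
      rs X h (δ W hW a) = δ W' hW' (rs X h a)) (W : X.Opens) (s : Γ(X, W)) :
    ∃ t : Γ(X, W), ∀ (W' : X.Opens) (hW' : IsAffineOpen W') (hle : W' ≤ W),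
      rs X hle t = δ W' hW' (rs X hle s) := by
  let ι := {W' : X.Opens // IsAffineOpen W' ∧ W' ≤ W}
  obtain ⟨t, ht, -⟩ := TopCat.Sheaf.existsUnique_gluing' X.sheaf (fun i : ι => i.1) W (fun i => homOfLE i.2.2)
    (fun z hz => by
      obtain ⟨_, ⟨W', hW', rfl⟩, hzW, hle⟩ := X.isBasis_affineOpens.exists_subset_of_mem_open hz W.2
      exact Opens.mem_iSup.2 ⟨⟨W', hW', hle⟩, hzW⟩)
    (fun i => δ i.1 i.2.1 (rs X i.2.2 s)) (fun i j => eq_of_affine _ _ fun W' hW' hle => by
      change rs X hle (rs X inf_le_left (δ i.1 i.2.1 _)) = rs X hle (rs X inf_le_right (δ j.1 j.2.1 _))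
      rw [rs_rs, rs_rs, hres i.1 W' i.2.1 hW', hres j.1 W' j.2.1 hW', rs_rs, rs_rs])
  exact ⟨t, fun W' hW' hle => ht ⟨W', hW', hle⟩⟩

/-- The operator on the structure sheaf. -/
theorem exists_sheaf_op {A : Type u} [CommRing A] {V : Scheme.{u}}
    (f : V ⟶ Spec (CommRingCat.of A)) [Etale f] (θ : Derivation ℤ A A) :
    ∃ φ : Coh.toAb (Coh.structureModule V) ⟶ Coh.toAb (Coh.structureModule V), ∀ a : A,
      Coh.smulAb (Coh.structureModule V) (Coh.toGlobal f a) ≫ φ =
        Coh.smulAb (Coh.structureModule V) (Coh.toGlobal f (θ a)) +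
          φ ≫ Coh.smulAb (Coh.structureModule V) (Coh.toGlobal f a) := by
  classical
  let ψ : ∀ W : V.Opens, A →+* Γ(V, W) := fun W => (rs V (le_top : W ≤ ⊤)).comp (Coh.toGlobal f)
  have hψ : ∀ {W' W : V.Opens} (h : W' ≤ W) (a : A), rs V h (ψ W a) = ψ W' a := fun h a => rs_rs h _ _
  have het : ∀ W : V.Opens, IsAffineOpen W → (ψ W).Etale := fun W hW => by
    have h1 := HasRingHomProperty.appLE @Etale f ‹_› ⟨⊤, isAffineOpen_top _⟩ ⟨W, hW⟩ (by simp)
    exact RingHom.Etale.respectsIso.2 _ ((Scheme.ΓSpecIso (CommRingCat.of A)).symm.commRingCatIsoToRingEquiv) h1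
  have hd : ∀ (W : V.Opens) (hW : IsAffineOpen W), ∃ d : Γ(V, W) →+ Γ(V, W),
      (∀ x y, d (x * y) = x * d y + y * d x) ∧ ∀ a, d (ψ W a) = ψ W (θ a) := fun W hW => by
    letI : Algebra A Γ(V, W) := (ψ W).toAlgebra
    haveI : Algebra.Etale A Γ(V, W) := het W hW
    exact exists_leibniz θ
  choose δ hmul hbase using hd
  have hres : ∀ (W W' : V.Opens) (hW : IsAffineOpen W) (hW' : IsAffineOpen W') (h : W' ≤ W) (a : Γ(V, W)),
      rs V h (δ W hW a) = δ W' hW' (rs V h a) := by
    intro W W' hW hW' h a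
    letI : Algebra A Γ(V, W) := (ψ W).toAlgebra
    haveI : Algebra.Etale A Γ(V, W) := het W hW
    exact leibniz_ext (A := A) (rs V h) ((rs V h).toAddMonoidHom.comp (δ W hW))
      ((δ W' hW').comp (rs V h).toAddMonoidHom)
      (fun x y => by
        show rs V h (δ W hW (x * y)) = _
        rw [hmul, map_add, map_mul, map_mul]; rfl)
      (fun x y => by
        show δ W' hW' (rs V h (x * y)) = _
        rw [map_mul, hmul]; rfl)
      (fun c => by
        show rs V h (δ W hW (ψ W c)) = δ W' hW' (rs V h (ψ W c))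
        rw [hbase, hψ, hψ, hbase]) a
  choose g hg using exists_glue δ hres
  have gadd : ∀ (W : V.Opens) (s t : Γ(V, W)), g W (s + t) = g W s + g W t := fun W s t =>
    eq_of_affine _ _ fun W' hW' hle => by
      rw [hg W _ W' hW' hle, map_add, map_add, map_add, hg W s W' hW' hle, hg W t W' hW' hle]
  have gres : ∀ {W' W : V.Opens} (h : W' ≤ W) (s : Γ(V, W)), g W' (rs V h s) = rs V h (g W s) := fun {W' W} h s =>
    eq_of_affine _ _ fun W'' hW'' hle => by
      rw [hg W' _ W'' hW'' hle, rs_rs, rs_rs, hg W s W'' hW'' (hle.trans h)]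
  let φ : Coh.toAb (Coh.structureModule V) ⟶ Coh.toAb (Coh.structureModule V) :=
    ⟨{ app := fun U => AddCommGrpCat.ofHom (AddMonoidHom.mk' (g U.unop) (gadd U.unop))
       naturality := fun U W i => by
         ext s
         exact gres i.unop.le s }⟩
  refine ⟨φ, fun a => ?_⟩
  ext U s
  show g U.unop (ψ U.unop a * (show Γ(V, U.unop) from s)) =
    ψ U.unop (θ a) * (show Γ(V, U.unop) from s) + ψ U.unop a * g U.unop s
  refine eq_of_affine _ _ fun W' hW' hle => ?_
  rw [hg _ _ W' hW' hle, map_mul, hmul, hψ, hbase, map_add, map_mul, map_mul, hψ, hψ, hg _ _ W' hW' hle]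
  ring

end Groth.CohDerOp
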